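import Groth.Agent.Lib.HTop.PhBind

/-! # A ph covering of a qcqs scheme is refined by a single proper surjective morphism -/

universe w u

open CategoryTheory CategoryTheory.Limits AlgebraicGeometry TopologicalSpace

namespace GrothLib.HPh4

open _root_.HTop GrothLib.HTop

theorem exists_proper_refining {T : Scheme.{u}} [CompactSpace T] [QuasiSeparatedSpace T]
    (E : PreZeroHypercover.{w} T) (hE : IsPhCover E) :
    ∃ (P : Scheme.{u}) (p : P ⟶ T), IsProper p ∧ Surjective p ∧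
      ∀ z : P, ∃ (O : P.Opens) (i : E.I₀) (k : (O : Scheme.{u}) ⟶ E.X i),
        z ∈ O ∧ k ≫ E.f i = O.ι ≫ p := by
  have hnb : ∀ x : T, ∃ A : T.affineOpens, x ∈ (A : T.Opens) := fun x => by
    obtain ⟨A, hA, hxA, -⟩ := exists_isAffineOpen_mem_and_subset (x := x) (U := (⊤ : T.Opens)) trivial
    exact ⟨⟨A, hA⟩, hxA⟩
  choose A hxA using hnb
  obtain ⟨s, hs⟩ := isCompact_univ.elim_finite_subcover (fun x : T => ((A x : T.Opens) : Set T))
    (fun x => (A x : T.Opens).2) fun x _ => Set.mem_iUnion.2 ⟨x, hxA x⟩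
  choose F hF hr using fun x : s => hE.2 (A x.1)
  choose V g ι hg hgs hι hc hcov using fun x : s => (hF x).exists_proper
  choose Z q t hq hqs ht using fun x : s =>
    @exists_proper_extension T _ _ (A x.1 : T.Opens) (A x.1).2 _ (g x) (hg x) (hgs x)
  obtain ⟨P, p, r, hp, hps, hr'⟩ := exists_common_proper Z q hq hqs
  refine ⟨P, p, hp, hps, fun z => ?_⟩
  obtain ⟨x, hx, hzx⟩ := Set.mem_iUnion₂.1 (hs (Set.mem_univ (p z)))
  let j : s := ⟨x, hx⟩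
  let O₀ : (Z j).Opens := q j ⁻¹ᵁ (A j.1 : T.Opens)
  let O : P.Opens := r j ⁻¹ᵁ O₀
  have hzO : z ∈ O := by
    change q j (r j z) ∈ (A j.1 : T.Opens)
    rw [← Scheme.Hom.comp_apply, hr' j]
    exact hzx
  let m : (O : Scheme.{u}) ⟶ V j := (r j ∣_ O₀) ≫ t j
  obtain ⟨k, hk⟩ := hcov j (m ⟨z, hzO⟩)
  haveI := hι j k
  let W : (O : Scheme.{u}).Opens := m ⁻¹ᵁ (ι j k).opensRange
  obtain ⟨l, hl⟩ : ∃ l, l ≫ ι j k = W.ι ≫ m := ⟨_, IsOpenImmersion.lift_fac (ι j k) _ (by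
    rintro _ ⟨y, rfl⟩
    rw [Scheme.Hom.comp_apply]
    exact y.2)⟩
  obtain ⟨i, h, hh⟩ := hr j k
  refine ⟨O.ι ''ᵁ W, i, (O.ι.isoImage W).inv ≫ l ≫ h, ⟨⟨z, hzO⟩, hk, rfl⟩, ?_⟩
  have h2 : (r j ∣_ O₀) ≫ t j ≫ g j ≫ (A j.1 : T.Opens).ι = O.ι ≫ p := by
    have h1 : t j ≫ g j ≫ (A j.1 : T.Opens).ι = O₀.ι ≫ q j :=
      (Category.assoc _ _ _).symm.trans
        ((congrArg (· ≫ (A j.1 : T.Opens).ι) (ht j)).trans (morphismRestrict_ι _ _))
    rw [h1, morphismRestrict_ι_assoc, hr' j]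
  rw [Category.assoc, Category.assoc, hh, ← hc j k, Category.assoc, reassoc_of% hl,
    show m = (r j ∣_ O₀) ≫ t j from rfl, Category.assoc, h2, ← reassoc_of% (O.ι.isoImage_inv_ι W)]

end GrothLib.HPh4
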